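import Cfsg.Agent.GP.Fin

/-! Perfect subgroups centralizing an abelian strongly closed 2-subgroup. -/

set_option autoImplicit false
set_option linter.unusedSectionVars false
set_option linter.style.haveILetI false

namespace Cfsg.Agent.BS.R1

open MulAction Subgroup H15.RO
open scoped commutatorElement

variable {G Ω : Type*} [Group G] [Finite G] [MulAction G Ω] {a : Ω} {t : G} {Q : Subgroup G} {r : G}
  {F : Type} [Field F] {τ : F → G} {κ : Fˣ →* G} (h : R1 a t Q r τ κ)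
include h

theorem aut_X {E : Type} [Field E] {σ : E →+* E} {X Y : G → E} (c : UCo a t Q κ σ X Y)
    {φ : MulAut G} (h0 : ∀ x, φ (τ x) = τ x) :
    ∃ m, (∀ ξ ∈ Q, X (φ ξ) = m * X ξ) ∨ ∀ ξ ∈ Q, X (φ ξ) = m * σ (X ξ) := by
  have k0 : ∀ ξ ∈ Q, Y (ξ * ξ) = σ (X ξ) * X ξ := fun ξ hξ => by
    rw [(c.add ξ hξ ξ hξ).2, c.cj.add_self, zero_add]
  have k1 : ∀ ξ ∈ Q, σ (X (φ ξ)) * X (φ ξ) = σ (X ξ) * X ξ := fun ξ hξ => by
    obtain ⟨y, hy⟩ := h.mem_Q0.1 ((c.mem_Q0 h (mul_mem hξ hξ)).2 (by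
      rw [c.X_mul hξ hξ, c.cj.add_self]))
    rw [← k0 _ (h.aut_Q h0 hξ), ← map_mul, ← k0 ξ hξ, ← hy, h0]
  have k2 : ∀ ξ ∈ Q, ∀ η ∈ Q, X (φ (ξ * η)) = X (φ ξ) + X (φ η) := fun ξ hξ η hη => by
    rw [map_mul, c.X_mul (h.aut_Q h0 hξ) (h.aut_Q h0 hη)]
  obtain ⟨e, he, e1⟩ := c.exists_X 1
  have k3 : ∀ ξ ∈ Q, X (φ ξ) = X (φ e) * X ξ ∨ X (φ ξ) = X (φ e) * σ (X ξ) := fun ξ hξ => by
    have h1 := k1 e he
    have h2 := k1 ξ hξ
    have h3 := k1 _ (mul_mem hξ he)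
    rw [k2 ξ hξ e he, c.X_mul hξ he, e1, map_add, map_add] at h3
    rw [e1] at h1
    rw [map_one] at h1 h3
    refine (mul_eq_zero.1 (?_ : (X (φ ξ) - X (φ e) * X ξ) * (X (φ ξ) - X (φ e) * σ (X ξ)) = 0)).imp
      sub_eq_zero.1 sub_eq_zero.1
    linear_combination X (φ ξ) * X (φ e) * h3 - (X (φ ξ) * X (φ e) + X (φ e) ^ 2) * h2 -
      (X (φ ξ) * X (φ e) + X (φ ξ) ^ 2) * h1
  refine ⟨X (φ e), by_contra fun hn => ?_⟩
  push Not at hn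
  obtain ⟨⟨ξ, hξ, h1⟩, η, hη, h2⟩ := hn
  have h3 := k3 _ (mul_mem hξ hη)
  rw [k2 ξ hξ η hη, c.X_mul hξ hη, map_add, mul_add, mul_add] at h3
  rcases h3 with h3 | h3
  · exact h1 (add_right_cancel (h3.trans (by rw [← (k3 η hη).resolve_right h2])))
  · exact h2 (add_left_cancel (h3.trans (by rw [← (k3 ξ hξ).resolve_left h1])))

theorem perf_X {E : Type} [Field E] {σ : E →+* E} {X Y : G → E} (c : UCo a t Q κ σ X Y)
    {P : Subgroup (MulAut G)} (hP : ⁅P, P⁆ = P) (h0 : ∀ φ ∈ P, ∀ x, φ (τ x) = τ x) :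
    ∀ φ ∈ P, ∀ ξ ∈ Q, X (φ ξ) = X ξ := by
  have q : ∀ φ ∈ P, ∀ ξ ∈ Q, φ ξ ∈ Q := fun φ hφ ξ hξ => h.aut_Q (h0 φ hφ) hξ
  obtain ⟨e, he, e1⟩ := c.exists_X 1
  have k : ∀ α, ∀ β ∈ P, ∀ (s : E → E) (m m' : E), (∀ ξ ∈ Q, X (α ξ) = m * s (X ξ)) →
      (∀ ξ ∈ Q, X (β ξ) = m' * s (X ξ)) → ∀ η ∈ Q, X ((α * β⁻¹ : MulAut G) η) = m / m' * X η :=
    fun α β hβ s m m' h1 h2 η hη => by
      have h3 := fun η hη => h2 _ (q _ (inv_mem hβ) η hη)
      simp only [MulAut.apply_inv_self] at h3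
      have h4 : m' ≠ 0 := fun e2 => by simpa [e1, e2] using h3 e he
      rw [MulAut.mul_apply, h1 _ (q _ (inv_mem hβ) η hη), h3 η hη]
      field_simp
  let P1 : Subgroup (MulAut G) :=
    { carrier := {φ | φ ∈ P ∧ ∃ m, ∀ ξ ∈ Q, X (φ ξ) = m * X ξ}
      one_mem' := ⟨one_mem _, 1, fun ξ _ => by simp⟩
      mul_mem' := fun ⟨h1, m, h2⟩ ⟨h3, m', h4⟩ => ⟨mul_mem h1 h3, m * m', fun ξ hξ => by
        rw [MulAut.mul_apply, h2 _ (q _ h3 ξ hξ), h4 ξ hξ, mul_assoc]⟩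
      inv_mem' := fun ⟨h1, m, h2⟩ => ⟨inv_mem h1, 1 / m, by
        simpa using k 1 _ h1 id 1 m (by simp) h2⟩ }
  let P0 : Subgroup (MulAut G) :=
    { carrier := {φ | φ ∈ P ∧ ∀ ξ ∈ Q, X (φ ξ) = X ξ}
      one_mem' := ⟨one_mem _, fun ξ _ => rfl⟩
      mul_mem' := fun ⟨h1, h2⟩ ⟨h3, h4⟩ => ⟨mul_mem h1 h3, fun ξ hξ => by
        rw [MulAut.mul_apply, h2 _ (q _ h3 ξ hξ), h4 ξ hξ]⟩
      inv_mem' := fun ⟨h1, h2⟩ => ⟨inv_mem h1, fun ξ hξ => by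
        simpa using (h2 _ (q _ (inv_mem h1) ξ hξ)).symm⟩ }
  have e0 : ∀ φ ψ : MulAut G, ⁅φ, ψ⁆ = φ * ψ * (ψ * φ)⁻¹ := fun φ ψ => by
    rw [commutatorElement_def]; group
  have k1 : P ≤ P1 := hP.ge.trans (commutator_le.2 fun φ hφ ψ hψ => by
    refine ⟨hP.le (commutator_mem_commutator hφ hψ), ?_⟩
    rw [e0]
    obtain ⟨m, h1 | h1⟩ := h.aut_X c (h0 φ hφ) <;> obtain ⟨m', h2 | h2⟩ := h.aut_X c (h0 ψ hψ)
    · have a1 : φ ∈ P1 := ⟨hφ, m, h1⟩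
      have a2 : ψ ∈ P1 := ⟨hψ, m', h2⟩
      exact (P1.mul_mem (mul_mem a1 a2) (inv_mem (mul_mem a2 a1))).2
    · exact ⟨_, k _ _ (mul_mem hψ hφ) σ (m * m') (m' * σ m) (fun ξ hξ => by
        rw [MulAut.mul_apply, h1 _ (q _ hψ ξ hξ), h2 ξ hξ, mul_assoc]) fun ξ hξ => by
        rw [MulAut.mul_apply, h2 _ (q _ hφ ξ hξ), h1 ξ hξ, map_mul, mul_assoc]⟩
    · exact ⟨_, k _ _ (mul_mem hψ hφ) σ (m * σ m') (m' * m) (fun ξ hξ => by
        rw [MulAut.mul_apply, h1 _ (q _ hψ ξ hξ), h2 ξ hξ, map_mul, mul_assoc]) fun ξ hξ => by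
        rw [MulAut.mul_apply, h2 _ (q _ hφ ξ hξ), h1 ξ hξ, mul_assoc]⟩
    · exact ⟨_, k _ _ (mul_mem hψ hφ) id (m * σ m') (m' * σ m) (fun ξ hξ => by
        rw [MulAut.mul_apply, h1 _ (q _ hψ ξ hξ), h2 ξ hξ, map_mul, c.cj.inv, mul_assoc, id]) fun ξ hξ => by
        rw [MulAut.mul_apply, h2 _ (q _ hφ ξ hξ), h1 ξ hξ, map_mul, c.cj.inv, mul_assoc, id]⟩)
  have k0 : P ≤ P0 := hP.ge.trans (commutator_le.2 fun φ hφ ψ hψ => by
    refine ⟨hP.le (commutator_mem_commutator hφ hψ), fun η hη => ?_⟩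
    obtain ⟨-, m, h1⟩ := k1 hφ
    obtain ⟨-, m', h2⟩ := k1 hψ
    have h3 := q _ (inv_mem (mul_mem hψ hφ)) η hη
    rw [e0, MulAut.mul_apply, MulAut.mul_apply, h1 _ (q _ hψ _ h3), h2 _ h3, mul_left_comm, ← h1 _ h3,
      ← h2 _ (q _ hφ _ h3), ← MulAut.mul_apply, MulAut.apply_inv_self])
  exact fun φ hφ => (k0 hφ).2

theorem perf (hL : L0 t = ⊤) {P : Subgroup (MulAut G)} (hP : ⁅P, P⁆ = P)
    (h0 : ∀ φ ∈ P, ∀ x, φ (τ x) = τ x) : P = ⊥ := by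
  obtain ⟨S, hS⟩ := h.exists_sylow
  have h1 : P ≤ Q.map MulAut.conj := fun φ hφ => by
    obtain ⟨y, hy, e⟩ := h.inner hL (h0 φ hφ) (by
      rcases h.cases' hL with ⟨h1, -⟩ | ⟨-, E, _, σ, X, Y, c⟩
      · exact Or.inl h1
      · refine Or.inr fun x hx => (c.mem_Q0 h (mul_mem (inv_mem hx) (h.aut_Q (h0 φ hφ) hx))).2 ?_
        rw [c.X_mul (inv_mem hx) (h.aut_Q (h0 φ hφ) hx), c.X_inv hx, h.perf_X c hP h0 φ hφ x hx,
          c.cj.add_self])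
    exact ⟨y, hy, MulEquiv.ext fun g => (e g).symm⟩
  haveI := (((hS ▸ S.2 : IsPGroup 2 Q).map MulAut.conj).to_le h1).isNilpotent
  exact H10.eq_bot_of_perfect_of_solvable hP inferInstance

end Cfsg.Agent.BS.R1

namespace Cfsg.Agent.GP

open Subgroup Cfsg.Agent.H10 Cfsg.Agent.H11 Cfsg.Agent.WA Cfsg.Agent.GO

universe u

section
variable {G : Type*} [Group G] [Finite G] {A D E K L M T V X : Subgroup G}

theorem pf_R1 {Ω : Type*} [MulAction L Ω] {a : Ω} {t r : L} {F : Type} [Field F] {τ : F → L}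
    {κ : Fˣ →* L} [IsSimpleGroup L] (h : BS.R1 a t (T.subgroupOf L) r τ κ) (hV : OS V T L)
    (hD : D ≤ normalizer (L : Set G)) (hc : D ≤ centralizer (V : Set G)) (hp : ⁅D, D⁆ = D) :
    D ≤ centralizer (L : Set G) := fun d hd x hx => by
  have hL : BS.L0 t = ⊤ := (IsSimpleGroup.eq_bot_or_eq_top_of_normal _ inferInstance).resolve_left
    fun e => h.hS.ne_one (mem_bot.1 (e ▸ h.t_mem_L0))
  have := h.perf hL (P := im L.normalizerMonoidHom D) (by rw [← im_commutator hD hD, hp]) fun φ hφ y => by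
    obtain ⟨s, h1, h2, rfl⟩ := mem_im_iff.1 hφ
    exact Subtype.ext (mul_inv_eq_iff_eq_mul.2 (hc h2 _ ((hV.mem _).2
      ⟨h.tau_mem y, congrArg Subtype.val (h.tau_sq y)⟩)).symm)
  have h1 : d * x * d⁻¹ = x := by
    have := congrArg Subtype.val (DFunLike.congr_fun (this.le (mem_im (hD hd) hd)) ⟨x, hx⟩)
    exact this
  exact (mul_inv_eq_iff_eq_mul.1 h1).symm

theorem pf_gt [IsSimpleGroup L] (hL : ¬ IsMulCommutative L) (h : GT L)
    (hC : centralizer (L : Set G) = ⊥) (hV : OS V T L) (hD : D ≤ normalizer (L : Set G))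
    (hc : D ≤ centralizer (V : Set G)) (hp : ⁅D, D⁆ = D) : D = ⊥ := by
  have k : Ab2 L → WT L → D = ⊥ := fun h1 h2 => by
    have h3 : T ≤ V := fun x hx => (hV.mem x).2 ⟨hx, by
      obtain ⟨k, hk⟩ := hV.syl.pg ⟨x, hx⟩
      exact (h2.niceIn hL h1).elem x (hV.syl.le hx) ⟨k, congrArg Subtype.val hk⟩⟩
    obtain ⟨R, hR⟩ := exists_isSylIn 2 D
    have h4 : R ≤ V := fun s hs => by
      obtain ⟨k, hk⟩ := hR.pg ⟨s, hs⟩
      obtain ⟨y, h5, h6⟩ := inn_ab hL h1 hV.syl (hD (hR.le hs)) (congrArg Subtype.val hk)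
        (centralizer_anti h3 (hc (hR.le hs)))
      rw [hC, mem_bot, inv_mul_eq_one] at h6
      exact h6 ▸ h3 h5
    exact eq_bot_of_perfect_of_solvable hp (solv_of_odd (odd_iff_cop.2 (coprime_card_of_perfect_sub hp
      (commutator_eq_bot_iff_le_centralizer.2 (h4.trans (le_centralizer_iff.1 hc)))
      (coprime_of_not_dvd hR.not_dvd_relIndex))))
  obtain ⟨S, hS⟩ := hV.syl.exists_sylow
  rcases h with ⟨h1, h2⟩ | ⟨F, _, _, ⟨n, h1, h2⟩, ⟨e⟩⟩ | ⟨F, _, _, m, hm, hF, ⟨e⟩⟩ | ⟨F, _, _, n, h1, h2, ⟨e⟩⟩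
  · exact k (ab2_of_top h1) h2
  · exact k (ab2_of_bt (BT.of_psl h2 e)) (Or.inl ⟨F, _, _, ⟨n, h1, h2⟩, ⟨e⟩⟩)
  · haveI := H15.Sz.charP_two hF
    obtain ⟨M, -, h1⟩ := ((H15.Sz.lieModel hm hF).ofEquiv e).exists_model_sylow S
    obtain ⟨y, y0, y1⟩ := H15.Sz.exists_ne_zero_one hm hF
    obtain ⟨r, K, _, τ, κ, h⟩ := BS.exists_R1 M.setup ⟨M.S 0 y, M.S 0 1, by simp [M.S_eq_one, y0],
      by simp [M.S_eq_one], by simp [M.S_inj, y1], M.S_mul_self_eq_one.2 rfl, M.S_mul_self_eq_one.2 rfl,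
      by rw [M.S_zero_mul, M.S_zero_mul, add_comm]⟩
    rw [h1.trans hS] at h
    exact eq_bot_iff.2 (hC ▸ pf_R1 h hV hD hc hp)
  · obtain ⟨M, hM⟩ := BS.se_PSU h2 (Nat.even_pow.2 ⟨even_two, by omega⟩) e
    obtain ⟨M', t, r, F, _, τ, κ, h⟩ :=
      BS.exists_R1_sylow hM (SE.two_of_simple hM) (BS.Bd.oddCore_simple hM) S
    exact eq_bot_iff.2 (hC ▸ pf_R1 (hS ▸ h) hV hD hc hp)

theorem pf_ac (h : AC E K ⊤) (hc : D ≤ centralizer (E : Set G)) (hp : ⁅D, D⁆ = D) : D ≤ cn K := by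
  have hD := ac_norm h hc
  obtain ⟨T, hT, h1⟩ := h.exists_syl
  haveI := ti_simple h.pqs
  exact (ti_eq_bot hD).1 (pf_gt (ti_nc h.pqs) h.gt (ti_cent h.pqs) (h.os hT h1)
    (le_top.trans ti_top.ge) (im_le_centralizer h.nA hc) (by rw [← im_commutator hD hD, hp]))

end

/-- The commutator property for abelian strongly closed subgroups. -/
def QA (G : Type*) [Group G] [Finite G] : Prop := ∀ A D : Subgroup G, SC A ⊤ →
  A ≤ centralizer (A : Set G) → ⁅D, D⁆ = D → D ≤ centralizer (A : Set G) → ⁅Kc A ⊤, D⁆ ≤ OqOf 2 ⊤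

section
variable {G : Type*} [Group G] [Finite G] {A D E K L M T V X : Subgroup G}

theorem map_cent {G' : Type*} [Group G'] (f : G →* G') (h : D ≤ centralizer (A : Set G)) :
    D.map f ≤ centralizer (A.map f : Set G') := by
  rw [← commutator_eq_bot_iff_le_centralizer] at h ⊢
  rw [← map_commutator, h, Subgroup.map_bot]

theorem comm_bot_of [M.Normal] (hO : OqOf 2 (⊤ : Subgroup G) = ⊥) (hp : ⁅D, D⁆ = D)
    (hc : D ≤ centralizer (M : Set G))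
    (h : ⁅K.map (QuotientGroup.mk' M), D.map (QuotientGroup.mk' M)⁆ ≤ OqOf 2 ⊤) : ⁅K, D⁆ = ⊥ := by
  rw [← map_commutator, map_le_iff_le_comap] at h
  exact commutator_eq_bot_of_perfect hp (commutator_eq_bot_iff_le_centralizer.2 (((le_inf h
    ((commutator_mono le_rfl hc).trans (commutator_le_right _ _))).trans (cy hO)).trans
    (inf_le_left.trans (le_centralizer_iff.1 hc))))

theorem qa_step (hq : ∀ (N : Subgroup G) [N.Normal], N ≠ ⊥ → QA (G ⧸ N)) : QA G := fun A D h h1 hp hc => by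
  have k : ∀ (N : Subgroup G) [N.Normal], N ≠ ⊥ →
      ⁅(Kc A ⊤).map (QuotientGroup.mk' N), D.map (QuotientGroup.mk' N)⁆ ≤ OqOf 2 ⊤ := fun N _ hN => by
    have hs := QuotientGroup.mk'_surjective N
    rw [← Kc_map hs]
    exact hq N hN _ _ (sc_map hs h) (map_cent _ h1) (by rw [← map_commutator, hp]) (map_cent _ hc)
  by_cases hO : OqOf 2 (⊤ : Subgroup G) = ⊥
  swap
  · have := k _ (OqOf_top (G := G) 2 ▸ hO)
    rwa [O_quot, le_bot_iff, ← commutator_le_iff_map_mk', ← OqOf_top] at this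
  by_cases a1 : A = ⊥
  · exact (commutator_eq_bot_iff_le_centralizer.2 ((Kc_top_le a1.le).trans bot_le)).le.trans bot_le
  obtain ⟨E, hE, h2⟩ := sc_omega h fun a ha _ b hb _ => (h1 ha b hb).symm
  have h3 := hc.trans (centralizer_anti fun x hx => ((h2 x).1 hx).1)
  by_cases e1 : E ⊓ OpOf 2 ⊤ = ⊥
  · obtain ⟨z, hz, z2, -⟩ := exists_inv h.two a1
    obtain ⟨L, hL⟩ := exists_ac (lo_all ⊤) hO hE (fun e2 => ne_one_of_orderOf_two z2
      (e2.le ((h2 z).2 ⟨hz, (orderOf_two_iff.1 z2).2⟩))) e1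
    refine (comm_bot_of hO hp (le_centralizer_iff.1 (Kc_le_iff.2 fun x ⟨g, hg⟩ _ => ?_))
      (k (Kc L ⊤) fun e => not_le_cn hL.pqs (le_Kc_top.trans (e.le.trans bot_le)))).le.trans bot_le
    have h4 := hL.conj (mem_top g⁻¹)
    have h5 := comm_of_cn h4.pc (pf_ac h4 h3 hp)
    rw [hO, le_bot_iff, commutator_eq_bot_iff_le_centralizer, le_centralizer_iff] at h5
    exact h5 (H11.mem_cj.2 (by rwa [inv_inv]))
  · haveI : (OpOf 2 (⊤ : Subgroup G)).Normal :=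
      normal_of_normalizer_top (le_normalizer_OpOf le_normalizer)
    haveI := sc_normal (sc_inf (M := OpOf 2 ⊤) hE.toSC) inf_le_right
    exact (comm_bot_of hO hp (h3.trans (centralizer_anti inf_le_left)) (k _ e1)).le.trans bot_le

end

theorem qa (G : Type u) [Group G] [Finite G] : QA G := by
  induction' e : Nat.card G using Nat.strong_induction_on with n ih generalizing G
  exact qa_step fun N _ hN => ih _ (e ▸ card_quotient_lt_of_ne_bot hN) _ rfl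

end Cfsg.Agent.GP
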