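import Cfsg.Agent.GP.CA
import Cfsg.Agent.H3.Action

/-! The perfect core of the centralizer of a strongly closed 2-subgroup. -/

set_option autoImplicit false
set_option linter.unusedSectionVars false
set_option linter.style.haveILetI false

namespace Cfsg.Agent.GP

open Subgroup Cfsg.Agent.H10 Cfsg.Agent.H11 Cfsg.Agent.WA Cfsg.Agent.GO
open scoped commutatorElement

variable {G : Type*} [Group G] [Finite G] {A B D H K O P Q R S T U X : Subgroup G}

/-- The perfect core. -/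
def pc (H : Subgroup G) : Subgroup G := (⨅ n : ℕ, derivedSeries H n).map H.subtype

theorem pc_le : pc H ≤ H := map_subtype_le _

theorem pc_eq (H : Subgroup G) : ∃ n, ∀ m, n ≤ m → pc H = (derivedSeries H m).map H.subtype := by
  obtain ⟨n, hn⟩ := exists_minimalFor_of_wellFoundedLT (fun _ : ℕ => True) (derivedSeries H) ⟨0, trivial⟩
  refine ⟨n, fun m hm => congrArg _ (le_antisymm (iInf_le _ m) (le_iInf fun k => ?_))⟩
  rcases le_total k m with h | h
  · exact derivedSeries_antitone _ h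
  · exact (derivedSeries_antitone _ hm).trans (hn.2 trivial (derivedSeries_antitone _ (hm.trans h)))

theorem pc_perf : ⁅pc H, pc H⁆ = pc H := by
  obtain ⟨n, hn⟩ := pc_eq H
  conv_rhs => rw [hn (n + 1) n.le_succ, derivedSeries_succ, map_commutator, ← hn n le_rfl]

theorem le_pc_sup (hp : ⁅P, P⁆ = P) (h : P ≤ H ⊔ O) (hn : H ≤ normalizer (O : Set G)) :
    P ≤ pc H ⊔ O := by
  obtain ⟨n, h1⟩ := pc_eq H
  rw [h1 n le_rfl]
  clear h1
  induction n with
  | zero => rwa [derivedSeries_zero, ← MonoidHom.range_eq_map, range_subtype]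
  | succ n ih =>
    have h2 := (map_subtype_le (derivedSeries H n)).trans hn
    have h3 := ih.trans (sup_le h2 le_normalizer)
    let f := QuotientGroup.mk' (O.subgroupOf (normalizer (O : Set G)))
    have h4 : kr f = O := kr_mk'_subgroupOf le_normalizer
    rw [← h4, ← im_le_im_iff h3 h2] at ih
    rw [derivedSeries_succ, map_commutator, ← h4, ← im_le_im_iff h3
      ((commutator_le_left_of_le_normalizer le_normalizer).trans h2), ← hp, im_commutator h3 h3,
      im_commutator h2 h2]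
    exact commutator_mono ih ih

theorem le_pc (hp : ⁅P, P⁆ = P) (h : P ≤ H) : P ≤ pc H :=
  (le_pc_sup hp (h.trans le_sup_left) le_normalizer_of_normal).trans (sup_bot_eq _).le

theorem cj_pc {g : G} (h : cj g H ≤ K) : cj g (pc H) ≤ pc K :=
  le_pc (by rw [H11.cj, ← map_commutator, pc_perf]) ((cj_mono g pc_le).trans h)

theorem norm_pc : normalizer (H : Set G) ≤ normalizer (pc H : Set G) := fun _ hg =>
  mem_normalizer_of_cj_le (cj_pc (cj_eq_iff.2 hg).le)

theorem le_Kc_of_syl (hB : IsSylIn 2 B H) (hD : D ≤ H) (hp : ⁅D, D⁆ = D) : D ≤ Kc B ⊤ := by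
  obtain ⟨Q, hQ⟩ := exists_isSylIn 2 D
  obtain ⟨g, -, hg⟩ := hB.exists_cj_le hQ.pg (hQ.le.trans hD)
  have h1 : Q.map (QuotientGroup.mk' (Kc B ⊤)) = ⊥ := by
    rw [Subgroup.map_eq_bot_iff, QuotientGroup.ker_mk']
    exact fun x hx => mem_Kc ⟨g, cj_le_iff.1 hg x hx⟩ trivial
  have h2 := (GW.sylIn_map hQ (QuotientGroup.mk' (Kc B ⊤))).not_dvd_relIndex
  rw [h1, relIndex_bot_left] at h2
  rw [← QuotientGroup.ker_mk' (Kc B ⊤), ← Subgroup.map_eq_bot_iff]
  exact eq_bot_of_perfect_of_solvable (by rw [← map_commutator, hp])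
    (solv_of_odd (odd_iff_cop.2 (coprime_of_not_dvd h2)))

theorem syl_sup_odd (hQ : IsSylIn 2 Q H) (hn : H ≤ normalizer (O : Set G)) (ho : Odd (Nat.card O)) :
    IsSylIn 2 Q (H ⊔ O) := isSylIn_of_not_dvd (hQ.le.trans le_sup_left) hQ.pg fun e => by
  rw [← relIndex_mul_relIndex Q H (H ⊔ O) hQ.le le_sup_left] at e
  exact (Nat.prime_two.dvd_mul.1 e).elim hQ.not_dvd_relIndex fun e1 =>
    ho.not_two_dvd_nat (e1.trans (relIndex_sup_dvd_card hn))

theorem sc_syl (hS : IsSylIn 2 S X) : SC S X := SC.of_syl hS le_rfl fun _ _ _ _ e => e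

theorem st0 [U.Normal] (hO : OqOf 2 (⊤ : Subgroup G) = ⊥) (hA : SC A ⊤) (hU : U ≤ A)
    (hc : A ⊓ centralizer (U : Set G) ≤ U) (hp : ⁅D, D⁆ = D) (hD : D ≤ centralizer (U : Set G)) :
    ⁅A, D⁆ = ⊥ := by
  obtain ⟨S, hS, h1⟩ := hA.exists_syl
  have hs := QuotientGroup.mk'_surjective U
  have h2 : PP (A.map (QuotientGroup.mk' U)) ((S ⊓ centralizer (U : Set G)).map (QuotientGroup.mk' U)) :=
    ⟨sc_map hs hA, sc_map hs (sc_inf (sc_syl hS)), by
      rw [← commutator_eq_bot_iff_le_centralizer, ← commutator_le_iff_map_mk']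
      exact (le_inf (commutator_le_left_of_le_normalizer (inf_le_left.trans (hA.le_norm le_top hS.pg h1)))
        ((commutator_mono le_rfl inf_le_right).trans (commutator_le_right _ _))).trans hc⟩
  have h3 := h2.ps (by
    rw [map_inf_eq, Subgroup.map_eq_bot_iff, QuotientGroup.ker_mk', inf_comm, sup_comm,
      dedekind hU (.inr le_normalizer_of_normal)]
    exact sup_le le_rfl ((le_inf inf_le_right (inf_le_left.trans inf_le_right)).trans hc))
  rw [Kc_map hs, Kc_map hs] at h3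
  exact comm_bot_of hO hp hD ((commutator_mono (map_mono le_Kc_top) (map_mono (le_Kc_of_syl
    (hS.inf_of_normalized le_top le_normalizer_of_normal) hD hp))).trans h3)

theorem st1 [hn : U.Normal] (hA : SC A ⊤) (hU : U ≤ A) (hc : A ⊓ centralizer (U : Set G) ≤ U)
    (hp : ⁅D, D⁆ = D) (hD : D ≤ centralizer (U : Set G)) : ⁅A, D⁆ ≤ OqOf 2 ⊤ := by
  have hs := QuotientGroup.mk'_surjective (pPrimeCore 2 G)
  haveI := hn.map _ hs
  rw [OqOf_top, commutator_le_iff_map_mk']
  refine st0 O_quot (sc_map hs hA) (map_mono hU) ?_ (by rw [← map_commutator, hp]) (map_cent _ hD)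
  rintro _ ⟨⟨x, hx, rfl⟩, h1⟩
  refine mem_map_of_mem _ (hc ⟨hx, fun u hu => commutatorElement_eq_one_iff_mul_comm.1
    ((inf_eq_bot_of_odd (hA.two.to_le hU) (odd_O (X := ⊤))).le ⟨?_, ?_⟩)⟩)
  · simpa [commutatorElement_def, mul_assoc] using mul_mem hu (hn.conj_mem _ (inv_mem hu) x)
  · refine (OqOf_top 2).ge ((QuotientGroup.ker_mk' (pPrimeCore 2 G)).le (MonoidHom.mem_ker.2 ?_))
    rw [map_commutatorElement, commutatorElement_eq_one_iff_mul_comm]
    exact h1 _ (mem_map_of_mem _ hu)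

theorem st2 (hA : SC A X) (hX : X ≤ normalizer (U : Set G)) (hU : U ≤ A)
    (hc : A ⊓ centralizer (U : Set G) ≤ U) (hp : ⁅D, D⁆ = D) (hDX : D ≤ X)
    (hD : D ≤ centralizer (U : Set G)) : ⁅A, D⁆ ≤ OqOf 2 X := by
  haveI := normal_subgroupOf_of_le_normalizer hX
  have := map_mono (f := X.subtype) (st1 (U := U.subgroupOf X) (D := D.subgroupOf X) hA.subgroupOf
    (comap_mono hU) (fun x hx => hc ⟨hx.1, fun u hu =>
      congrArg Subtype.val (hx.2 ⟨u, hA.le (hU hu)⟩ hu)⟩) (map_injective X.subtype_injective (by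
        rw [map_commutator, map_subgroupOf_eq_of_le hDX, hp]))
    fun x hx u hu => Subtype.ext (hD hx u hu))
  rwa [map_commutator, map_subgroupOf_eq_of_le hA.le, map_subgroupOf_eq_of_le hDX, OqOf_top] at this

theorem exists_over (hT : SC T ⊤) (hQ : IsPGroup 2 Q) :
    ∃ (g : G) (S : Subgroup G), IsPGroup 2 S ∧ Q ≤ S ∧ cj g T ≤ S ∧ SC (cj g T) ⊤ := by
  obtain ⟨S, hS, h1⟩ := exists_isSylIn_le hQ le_top
  obtain ⟨g, -, hg⟩ := hS.exists_cj_le hT.two le_top
  exact ⟨g, S, hS.pg, h1, hg, cj_top g ▸ hT.cj g⟩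

theorem card_bd (hT : SC T ⊤) (hR : IsSylIn 2 R (pc (centralizer (T : Set G)))) (hU : IsPGroup 2 U)
    (h1 : ∀ x ∈ U, x ∈ Dj T) (h2 : ∀ x ∈ Dj T, x ∈ centralizer (U : Set G) → x ∈ U)
    (hQ : IsPGroup 2 Q) (h3 : Q ≤ pc (centralizer (U : Set G))) : Nat.card Q ≤ Nat.card R := by
  induction' e : Nat.card T - Nat.card U using Nat.strong_induction_on with n ih generalizing U Q
  obtain ⟨S, hS⟩ := exists_isSylIn 2 (normalizer (U : Set G))
  obtain ⟨g, S', h4, h5, h6, h7⟩ := exists_over hT hS.pg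
  have h8 : U ≤ cj g T := fun x hx => sc_mem h7 h4 h6
    (h5 (hS.le_of_normalized hU le_normalizer hS.le hx)) (Dj_cj (A := T) g ▸ h1 x hx)
  rcases h8.eq_or_lt with rfl | h9
  · rw [← card_cj g⁻¹ Q]
    exact hR.card_le (IsPGroup_cj hQ _) ((cj_mono _ h3).trans (cj_pc (by
      rw [cj_centralizer, cj_inv_cj])))
  have k1 := lt_inf_normalizer_of_lt h7.two h9
  have k2 : cj g T ⊓ normalizer (U : Set G) ≤ S := (inf_le_inf_right _ h6).trans
    (hS.eq (h4.to_le inf_le_left) (le_inf h5 hS.le) inf_le_right).le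
  have k3 := centralizer_le_normalizer (U : Set G)
  have k4 := st2 (SC.of_syl hS k2 fun a ha x _ e =>
    ⟨h7.cl S' le_top h4 h6 a ha.1 x trivial (h5 e), hS.le e⟩) le_rfl k1.le
    (fun x hx => h2 x (Dj_cj (A := T) g ▸ mem_Dj hx.1.1) hx.2) pc_perf (pc_le.trans k3) pc_le
  rw [commutator_comm] at k4
  have k5 := ((centralizer_anti k1.le).trans k3).trans (le_normalizer_OqOf (p := 2) le_normalizer)
  have k6 := le_pc_sup pc_perf ((le_cent_sup (pc_le.trans k3) inf_le_right (h7.two.to_le inf_le_left)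
    k4).trans (sup_le_sup_right inf_le_right _)) k5
  obtain ⟨Q', hQ'⟩ := exists_isSylIn 2
    (pc (centralizer ((cj g T ⊓ normalizer (U : Set G) : Subgroup G) : Set G)))
  have k7 := H11.card_lt_of_lt k1
  have k8 := (card_le_of_le (inf_le_left : cj g T ⊓ normalizer (U : Set G) ≤ _)).trans (card_cj g T).le
  exact ((syl_sup_odd hQ' (pc_le.trans k5) odd_O).card_le hQ (h3.trans k6)).trans (ih _ (by omega)
    (h7.two.to_le inf_le_left) (fun x hx => Dj_cj (A := T) g ▸ mem_Dj hx.1)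
    (fun x hx e => k1.le (h2 x hx (centralizer_anti k1.le e))) hQ'.pg hQ'.le rfl)

section
variable {S : Sylow 2 G} (hT : SC T ⊤) (hS : T ≤ S)
include hT hS

theorem norm_inf (hB : B ≤ S) :
    normalizer (B : Set G) ≤ normalizer ((B ⊓ T : Subgroup G) : Set G) := fun n hn =>
  mem_normalizer_of_forall fun u hu => ⟨conj_mem_of_mem_normalizer hn hu.1,
    hT.cl S le_top S.2 hS u hu.2 n trivial (hB (conj_mem_of_mem_normalizer hn hu.1))⟩

theorem centric (hB : B ≤ S) (hf : H3.FullyNormalized 2 S B) (hr : H3.Radical 2 S B) :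
    ∀ x ∈ Dj T, x ∈ centralizer ((B ⊓ T : Subgroup G) : Set G) → x ∈ B ⊓ T := fun x hx hc => by
  have h0 := isSylIn_of_not_dvd hf.le hf.isPGroup hf.not_dvd
  have hn := norm_inf hT hS hB
  obtain ⟨S1, h1, h2⟩ := exists_isSylIn_le h0.pg (inf_le_right.trans hn)
  obtain ⟨g, S', h4, h5, h6, h7⟩ := exists_over hT h1.pg
  have h8 : B ≤ S1 := (le_inf hB le_normalizer).trans h2
  have h9 : cj g T ⊓ S1 ⊓ centralizer ((B ⊓ T : Subgroup G) : Set G) ≤ B := by
    by_contra e
    obtain ⟨y, y1, y2, y3⟩ := exists_mem_normalizer_of_lt (h1.pg.to_le (sup_le h8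
      (inf_le_left.trans inf_le_right))) (left_lt_sup.2 e)
    obtain ⟨b, hb, q, hq, rfl⟩ := (mem_sup_iff_of_left_le_normalizer (le_normalizer_inf
      (le_normalizer_inf ((h8.trans h5).trans (h7.le_norm le_top h4 h6)) (h8.trans le_normalizer))
      ((h8.trans h1.le).trans (normalizer_le_normalizer_centralizer _)))).1 y1
    have q1 := (mul_mem_cancel_left (le_normalizer hb)).1 y3
    have q2 := ((h0.eq (h1.pg.to_le inf_le_left) (le_inf h2 inf_le_right) inf_le_right).le
      ⟨hq.1.2, q1⟩).1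
    have q3 := sc_mem hT S.2 hS q2 (Dj_cj (A := T) g ▸ mem_Dj hq.1.1)
    exact y2 (mul_mem hb (hr.mem_of_stabilizes (hT.two.to_le inf_le_right) hn q2 q1 hq.2 fun b hb =>
      ⟨by simpa [commutatorElement_def, mul_assoc] using
        mul_mem hb (conj_mem_of_mem_normalizer q1 (inv_mem hb)),
      T.mul_mem (conj_mem_of_mem_normalizer (hT.le_norm le_top S.2 hS (hB hb)) q3) (inv_mem q3)⟩))
  obtain ⟨n, n1, n2⟩ := h1.exists_cj_le (Dj_two hT.two hx)
    (zpowers_le.2 (centralizer_le_normalizer _ hc))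
  rw [cj_zpowers, zpowers_le] at n2
  have n3 := h9 ⟨⟨sc_mem h7 h4 h6 (h5 n2) (Dj_cj (A := T) g ▸ Dj_conj hx n), n2⟩,
    conj_mem_of_mem_normalizer (normalizer_le_normalizer_centralizer _ n1) hc⟩
  exact (mem_normalizer_iff.1 n1 x).2 ⟨n3, sc_mem hT S.2 hS (hB n3) (Dj_conj hx n)⟩

theorem syl_pc : IsSylIn 2 (S ⊓ pc (centralizer (T : Set G))) (pc (centralizer (T : Set G))) :=
  (isSylIn_of_sylow_le S (hT.le_norm le_top S.2 hS)).inf_of_normalized
    (pc_le.trans (centralizer_le_normalizer _))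
    ((normalizer_le_normalizer_centralizer _).trans norm_pc)

theorem sc_pc : SC (S ⊓ pc (centralizer (T : Set G))) ⊤ := by
  set R := (S : Subgroup G) ⊓ pc (centralizer (T : Set G)) with hR
  have key : ∀ B : Subgroup G, B ≤ S → H3.FullyNormalized 2 S B → H3.Radical 2 S B →
      ∀ n ∈ normalizer (B : Set G), ∀ x ∈ B, x ∈ R ↔ n * x * n⁻¹ ∈ R := fun B hB hf hr n hn x hx => by
    have h1 : R = (S : Subgroup G) ⊓ pc (centralizer ((B ⊓ T : Subgroup G) : Set G)) := eq_of_le_of_card_ge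
      (inf_le_inf_left _ (le_pc pc_perf (pc_le.trans (centralizer_anti inf_le_right))))
      (card_bd hT (syl_pc hT hS) (hT.two.to_le inf_le_right) (fun x hx => mem_Dj hx.2)
        (centric hT hS hB hf hr) (S.2.to_le inf_le_left) inf_le_right)
    rw [h1, mem_inf, mem_inf, and_iff_right (hB hx),
      and_iff_right (hB (conj_mem_of_mem_normalizer hn hx))]
    exact mem_normalizer_iff.1 (norm_pc (normalizer_le_normalizer_centralizer _ (norm_inf hT hS hB hn))) x
  refine SC.of_syl (isSylIn_top S) inf_le_left fun a ha g _ e => (H3.alperin_essential S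
    (R := fun A g => ∀ x ∈ A, x ∈ R ↔ g * x * g⁻¹ ∈ R) ⟨fun h1 h2 x hx => h2 x (h1 hx),
      fun {A g k} h1 h2 x hx => ?_, fun {A g} h1 x hx => ?_⟩
    (key S le_rfl (H3.fullyNormalized_self S) (H3.radical_self _)) (fun B H hB hf hE hH => ?_)
    (zpowers a) g (zpowers_le.2 ha.1) ?_ a (mem_zpowers a)).1 ha
  · rw [h1 x hx, h2 _ (H11.mem_conj_smul.2 (by simpa [mul_assoc] using hx))]
    simp [mul_assoc]
  · simpa [mul_assoc] using (h1 _ (H11.mem_conj_smul.1 hx)).symm
  · by_contra hne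
    refine hne fun n hn => hH n hn (key B hB.le hf (hE.radical hB hf (fun c hc => hH c
      (centralizer_le_normalizer _ hc) fun x hx => ?_) hne) n hn)
    rw [← hc x hx, mul_inv_cancel_right]
  · rwa [conj_smul_eq_map, ← H11.cj, cj_zpowers, zpowers_le]

theorem pc_cent (hO : OqOf 2 (⊤ : Subgroup G) = ⊥) :
    pc (centralizer (T : Set G)) ≤ centralizer (Kc T ⊤ : Set G) := by
  have h1 : PP T (S ⊓ pc (centralizer (T : Set G))) :=
    ⟨hT, sc_pc hT hS, le_centralizer_iff.1 (inf_le_right.trans pc_le)⟩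
  have h2 := h1.qs
  have h3 := qa G _ _ h1.inf ((inf_le_left.trans h1.cm).trans (centralizer_anti inf_le_right))
    pc_perf (pc_le.trans (centralizer_anti inf_le_left))
  rw [hO, le_bot_iff] at h3
  rw [hO, sup_bot_eq] at h2
  rw [le_centralizer_iff, ← commutator_eq_bot_iff_le_centralizer]
  exact commutator_eq_bot_of_perfect pc_perf (eq_bot_iff.2 ((commutator_mono ((commutator_mono le_rfl
    (le_Kc_of_syl (syl_pc hT hS) le_rfl pc_perf)).trans h2) le_rfl).trans h3.le))

theorem pc_normal (hO : OqOf 2 (⊤ : Subgroup G) = ⊥) : (pc (centralizer (T : Set G))).Normal := by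
  rw [le_antisymm (le_pc pc_perf (pc_cent hT hS hO)) (le_pc pc_perf (pc_le.trans
    (centralizer_anti le_Kc_top)))]
  exact normal_of_normalizer_top (le_normalizer_of_normal.trans norm_pc)

end

end Cfsg.Agent.GP
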