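import Cfsg.Agent.JR.Ord
import Cfsg.Agent.S2131
import Cfsg.Statements.S4021

/-! Groups in which subgroups of equal order are conjugate. -/

set_option autoImplicit false

namespace Cfsg.Agent.GP

open Subgroup Cfsg.Agent.H12 Cfsg.Agent.JR
open scoped MatrixGroups

variable {G : Type*} [Group G]

/-- subgroups of equal order are conjugate -/
def EqC (G : Type*) [Group G] : Prop :=
  ∀ H K : Subgroup G, Nat.card H = Nat.card K → ∃ g : G, K = H.map (MulAut.conj g).toMonoidHom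

theorem EqC.surj [Finite G] (h : EqC G) {Q : Type*} [Group Q] (f : G →* Q)
    (hf : Function.Surjective f) : EqC Q := fun H K e => by
  haveI := Finite.of_surjective f hf
  obtain ⟨g, hg⟩ := h (H.comap f) (K.comap f) (by
    have h1 := (H.comap f).index_mul_card
    have h2 := (K.comap f).index_mul_card
    have h3 := H.index_mul_card
    have h4 := K.index_mul_card
    rw [index_comap_of_surjective _ hf] at h1 h2
    rw [e, ← h4] at h3
    rw [Nat.eq_of_mul_eq_mul_right Nat.card_pos h3, ← h2] at h1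
    exact Nat.eq_of_mul_eq_mul_left (Nat.pos_of_ne_zero index_ne_zero_of_finite) h1)
  refine ⟨f g, ?_⟩
  rw [← map_comap_eq_self_of_surjective hf K, hg, map_map, ← map_comap_eq_self_of_surjective hf H,
    map_map, comap_map_eq, sup_eq_left.2 (ker_le_comap f H)]
  congr 1
  ext x; simp

theorem EqC.no_pair [Finite G] (h : EqC G) {a y s : G} (ha : orderOf a = 2 * orderOf y)
    (hs : s * s = 1) (e : s * y * s⁻¹ = y⁻¹) (hy : y * y ≠ 1) : False := by
  have hc : s * y ≠ y * s := fun e1 => hy (by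
    rw [e1, mul_inv_cancel_right] at e
    exact eq_inv_iff_mul_eq_one.1 e)
  have h1 : IsDihedralPair (closure {y, s}) y s := ⟨rfl, hs, e, fun ⟨k, hk⟩ => hc (by
    simp only at hk
    rw [← hk]; exact (Commute.refl y).zpow_left k)⟩
  obtain ⟨g, hg⟩ := h (zpowers a) (closure {y, s}) (by rw [h1.card, Nat.card_zpowers, ha])
  obtain ⟨_, ⟨i, rfl⟩, hi⟩ := hg ▸ h1.left_mem
  obtain ⟨_, ⟨j, rfl⟩, hj⟩ := hg ▸ h1.right_mem
  apply hc
  rw [← hi, ← hj, ← map_mul, ← map_mul]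
  exact congrArg _ ((Commute.refl a).zpow_zpow j i)

theorem EqC.psl {F : Type*} [Field F] [Fintype F] (h : EqC PSL(2, F))
    (h8 : Fintype.card F % 8 = 3 ∨ Fintype.card F % 8 = 5) : Fintype.card F = 3 ∨ Fintype.card F = 5 := by
  obtain ⟨n, ho, hN⟩ : ∃ n, Odd n ∧ (4 * n = Fintype.card F - 1 ∨ 4 * n = Fintype.card F + 1) := by
    rcases h8 with e | e
    · exact ⟨(Fintype.card F + 1) / 4, Nat.odd_iff.2 (by omega), .inr (by omega)⟩
    · exact ⟨(Fintype.card F - 1) / 4, Nat.odd_iff.2 (by omega), .inl (by omega)⟩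
  have hD := DL.psl ho hN
  obtain ⟨x, hx⟩ := hD.exi
  obtain ⟨a, s, hp, oa, -⟩ := hD.dih x hx
  have h1 := Nat.odd_iff.1 ho
  by_contra hne
  refine h.no_pair (a := a) (y := a ^ 2) (s := s) ?_ hp.2.1 (by rw [← conj_pow, hp.2.2.1, inv_pow]) fun e => ?_
  · rw [orderOf_pow' a two_ne_zero, oa, Nat.gcd_eq_right (dvd_mul_right 2 n), Nat.mul_div_cancel_left _ two_pos]
  · rw [← pow_add] at e
    have := Nat.le_of_dvd (by norm_num) (oa ▸ orderOf_dvd_of_pow_eq_one e)
    omega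

theorem EqC.not_j1 [Finite G] (h : EqC G) : ¬ IsJ1 G := fun ⟨h1, h2⟩ => by
  obtain ⟨e⟩ := j1_of_dvd (G := G) (fun hc => by
    haveI := hc
    letI : CommGroup G := { mul_comm := fun a b => hc.1.1 a b }
    have := (IsSimpleGroup.prime_card (α := G))
    rw [h2] at this
    exact absurd this (by norm_num)) (h2 ▸ by norm_num) (h2 ▸ dvd_rfl)
  obtain ⟨t, -, ⟨f⟩⟩ := S2131.result
  let φ : Multiplicative (ZMod 2) × alternatingGroup (Fin 5) →* G :=
    e.symm.toMonoidHom.comp ((centralizer {t}).subtype.comp f.symm.toMonoidHom)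
  have hφ : Function.Injective φ :=
    e.symm.injective.comp (Subtype.val_injective.comp f.symm.injective)
  obtain ⟨a, y, s, k1, k2, k3, k4, k5, k6, k7⟩ :
      ∃ a y s : Multiplicative (ZMod 2) × alternatingGroup (Fin 5), a ^ 6 = 1 ∧ a ^ 2 ≠ 1 ∧ a ^ 3 ≠ 1 ∧
        y ^ 3 = 1 ∧ s * s = 1 ∧ s * y * s⁻¹ = y⁻¹ ∧ y * y ≠ 1 :=
    ⟨(Multiplicative.ofAdd 1, ⟨Equiv.swap 0 1 * Equiv.swap 1 2, Equiv.Perm.mem_alternatingGroup.2 (by decide)⟩),
      (1, ⟨Equiv.swap 0 1 * Equiv.swap 1 2, Equiv.Perm.mem_alternatingGroup.2 (by decide)⟩),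
      (1, ⟨Equiv.swap 0 1 * Equiv.swap 3 4, Equiv.Perm.mem_alternatingGroup.2 (by decide)⟩),
      by decide +kernel⟩
  haveI : Fact (Nat.Prime 3) := ⟨Nat.prime_three⟩
  refine h.no_pair (a := φ a) (y := φ y) (s := φ s) ?_ (by rw [← map_mul, k5, map_one])
    (by rw [← map_inv, ← map_mul, ← map_mul, k6, map_inv]) fun e1 => k7 (hφ (by rw [map_mul, e1, map_one]))
  rw [orderOf_injective φ hφ, orderOf_injective φ hφ,
    orderOf_eq_prime k4 fun e1 => k7 (by rw [e1, one_mul])]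
  refine (orderOf_eq_iff (by norm_num)).2 ⟨k1, fun m h1 h2 e1 => ?_⟩
  have e2 := Nat.dvd_gcd (orderOf_dvd_of_pow_eq_one e1) (orderOf_dvd_of_pow_eq_one k1)
  interval_cases m
  all_goals first
    | exact k3 e1
    | exact k2 (orderOf_dvd_iff_pow_eq_one.1 (e2.trans (by decide)))

theorem psl_three {F : Type*} [Field F] [Fintype F] (h : Fintype.card F = 3) :
    Nonempty (PSL(2, F) ≃* alternatingGroup (Fin 4)) := by
  obtain ⟨H, ⟨e⟩⟩ := exists_alt4 (F := F) (two_ne_zero_of_odd_card (by rw [h]; decide))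
  have h1 := card_PSL2 h
  have h2 : Nat.card H = 12 := by
    rw [Nat.card_congr e.toEquiv, nat_card_alternatingGroup]; simp [Nat.factorial]
  have h3 : H = ⊤ := eq_top_of_card_eq _ (by norm_num at h1; omega)
  exact ⟨(topEquiv.symm.trans (MulEquiv.subgroupCongr h3.symm)).trans e⟩

theorem EqC.cases [Finite G] (h : EqC G) {p : ℕ} [hp : Fact p.Prime] (h8 : p % 8 = 3 ∨ p % 8 = 5)
    (hc : Nonempty (G ≃* PSL(2, ZMod p)) ∨ Nonempty (G ≃* PSL(2, GaloisField p 3)) ∨
      Nonempty (G ≃* SL(2, ZMod p)) ∨ Nonempty (G ≃* SL(2, GaloisField p 3))) :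
    Nonempty (G ≃* alternatingGroup (Fin 4)) ∨ Nonempty (G ≃* alternatingGroup (Fin 5)) ∨
      Nonempty (G ≃* SL(2, ZMod 3)) ∨ Nonempty (G ≃* SL(2, ZMod 5)) := by
  letI := Fintype.ofFinite (GaloisField p 3)
  have c1 : Fintype.card (GaloisField p 3) = p ^ 3 := by
    rw [← Nat.card_eq_fintype_card, GaloisField.card p 3 (by norm_num)]
  have k : ¬ EqC PSL(2, GaloisField p 3) := fun h1 => by
    have h2 := h1.psl (by rw [c1, Nat.pow_mod]; rcases h8 with e | e <;> simp [e])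
    have h3 : 3 ^ 3 ≤ p ^ 3 := Nat.pow_le_pow_left (by omega) 3
    omega
  rcases hc with ⟨⟨e⟩⟩ | ⟨⟨e⟩⟩ | ⟨⟨e⟩⟩ | ⟨⟨e⟩⟩
  · rcases (h.surj e.toMonoidHom e.surjective).psl (by rwa [ZMod.card]) with h1 | h1
    · exact .inl ⟨e.trans (psl_three h1).some⟩
    · exact .inr (.inl ⟨e.trans (H13.nonempty_PSL2_five h1).some⟩)
  · exact absurd (h.surj e.toMonoidHom e.surjective) k
  · rcases ((h.surj e.toMonoidHom e.surjective).surj _ (QuotientGroup.mk'_surjective _)).psl
      (by rwa [ZMod.card]) with h1 | h1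
    · rw [ZMod.card] at h1; subst h1; exact .inr (.inr (.inl ⟨e⟩))
    · rw [ZMod.card] at h1; subst h1; exact .inr (.inr (.inr ⟨e⟩))
  · exact absurd ((h.surj e.toMonoidHom e.surjective).surj _ (QuotientGroup.mk'_surjective _)) k

end Cfsg.Agent.GP
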